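import Mathlib

/-!
# The class equation argument for the modular Jordan bound

`G` is finite with a central subgroup `Z`, `e`-th powers of elements commuting with a common
element outside `Z` commute, and centralisers without deep elements (elements whose `e ^ 5`-th
power is outside `Z`) are small modulo `Z`. Then either some abelian subgroup outside `Z` is
normal or `|G : Z|` is bounded.
-/

set_option autoImplicit false

namespace Cfsg.Agent.H75.BrauerFeit

/-- Bounded solutions of the class equation. -/
theorem exists_equation_bound (t : ℕ) : ∀ D : ℕ, 0 < D → ∃ B : ℕ, ∀ {ι : Type*} (N : ℕ),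
    0 < N → ∀ (s : Finset ι) (a b : ι → ℕ), s.card ≤ t → (∀ i ∈ s, a i * b i = N ∧ 2 ≤ b i) →
      (N : ℤ) ∣ (D : ℤ) * ((∑ i ∈ s, (b i : ℤ)) - 1) → N ≤ B := by
  induction t with
  | zero =>
    intro D hD
    refine ⟨D, fun {ι} N _ s a b hs _ hdvd => ?_⟩
    rw [Finset.card_eq_zero.1 (Nat.le_zero.1 hs)] at hdvd
    simp only [Finset.sum_empty, zero_sub, mul_neg, mul_one, dvd_neg] at hdvd
    exact Nat.le_of_dvd hD (Int.natCast_dvd_natCast.1 hdvd)
  | succ t ih =>
    intro D hD
    set T := 2 * D * (t + 1) with hT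
    obtain ⟨B, hB⟩ := ih (D * T.factorial) (Nat.mul_pos hD (Nat.factorial_pos _))
    refine ⟨max B (max D T), fun {ι} N hN s a b hs hab hdvd => ?_⟩
    classical
    by_cases hex : ∃ i ∈ s, a i ≤ T
    · obtain ⟨i, hi, hai⟩ := hex
      have hai0 : 0 < a i := Nat.pos_of_ne_zero fun h => by
        have := (hab i hi).1
        rw [h, zero_mul] at this
        omega
      obtain ⟨c, hc⟩ := Nat.dvd_factorial hai0 hai
      refine le_trans (hB N hN (s.erase i) a b (by rw [Finset.card_erase_of_mem hi]; omega)
        (fun j hj => hab j (Finset.mem_of_mem_erase hj)) ?_) (le_max_left _ _)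
      have h1 : (N : ℤ) ∣ ((D * T.factorial : ℕ) : ℤ) * (b i : ℤ) := ⟨(D : ℤ) * c, by
        rw [← (hab i hi).1, hc]; push_cast; ring⟩
      have h2 : ((D * T.factorial : ℕ) : ℤ) * ((∑ j ∈ s.erase i, (b j : ℤ)) - 1) =
          (T.factorial : ℤ) * ((D : ℤ) * ((∑ j ∈ s, (b j : ℤ)) - 1)) -
            ((D * T.factorial : ℕ) : ℤ) * (b i : ℤ) := by
        rw [← Finset.sum_erase_add s _ hi]; push_cast; ring
      rw [h2]
      exact dvd_sub (hdvd.mul_left _) h1
    · push Not at hex
      rcases s.eq_empty_or_nonempty with rfl | ⟨i₀, hi₀⟩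
      · simp only [Finset.sum_empty, zero_sub, mul_neg, mul_one, dvd_neg] at hdvd
        exact le_max_of_le_right (le_max_of_le_left
          (Nat.le_of_dvd hD (Int.natCast_dvd_natCast.1 hdvd)))
      · exfalso
        have hsum : (T + 1) * ∑ i ∈ s, b i ≤ (t + 1) * N := by
          rw [Finset.mul_sum]
          refine (Finset.sum_le_card_nsmul s _ N fun i hi => ?_).trans ?_
          · rw [← (hab i hi).1]
            exact Nat.mul_le_mul_right _ (hex i hi)
          · rw [smul_eq_mul]
            exact Nat.mul_le_mul_right _ hs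
        have h2 : 2 ≤ ∑ i ∈ s, b i :=
          (hab i₀ hi₀).2.trans (Finset.single_le_sum (fun i _ => Nat.zero_le (b i)) hi₀)
        obtain ⟨k, hk⟩ := Nat.exists_eq_add_of_le h2
        rw [← Nat.cast_sum, hk] at hdvd
        have h3 : N ∣ D * (k + 1) := by
          rw [← Int.natCast_dvd_natCast]
          convert hdvd using 1
          push_cast
          ring
        have h4 := Nat.le_of_dvd (by positivity) h3
        rw [hk] at hsum
        have h5 : (T + 1) * (D * (k + 1)) < (T + 1) * N := by
          calc (T + 1) * (D * (k + 1)) ≤ D * ((T + 1) * (2 + k)) := by nlinarith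
            _ ≤ D * ((t + 1) * N) := Nat.mul_le_mul_left D hsum
            _ < (T + 1) * N := by nlinarith
        exact absurd (Nat.lt_of_mul_lt_mul_left h5) (not_lt.2 h4)

/-- A conjugation invariant set of elements with small centralisers. -/
theorem card_dvd_of_small {H : Type*} [Group H] [Finite H] (P : H → Prop) (S : ℕ)
    (hinv : ∀ x y : H, P x → P (y * x * y⁻¹))
    (hS : ∀ x : H, P x → Nat.card (Subgroup.centralizer ({x} : Set H)) ≤ S) :
    Nat.card H ∣ S.factorial * Nat.card {x : H // P x} := by
  classical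
  cases nonempty_fintype H
  rw [Nat.card_eq_fintype_card (α := {x : H // P x}), Fintype.card_subtype,
    Finset.card_eq_sum_card_image ConjClasses.mk, Finset.mul_sum]
  refine Finset.dvd_sum fun c hc => ?_
  obtain ⟨x, hx, rfl⟩ := Finset.mem_image.1 hc
  have hPx : P x := (Finset.mem_filter.1 hx).2
  have hset : ((((Finset.univ.filter P).filter fun y => ConjClasses.mk y = ConjClasses.mk x)) :
      Set H) = MulAction.orbit (ConjAct H) x := by
    ext y
    simp only [Finset.coe_filter, Finset.mem_filter, Finset.mem_univ, true_and, Set.mem_ofPred_eq]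
    rw [ConjAct.orbit_eq_carrier_conjClasses, ConjClasses.mem_carrier_iff_mk_eq]
    refine ⟨fun h => h.2, fun h => ⟨?_, h⟩⟩
    obtain ⟨g, rfl⟩ := isConj_iff.1 (ConjClasses.mk_eq_mk_iff_isConj.1 h.symm)
    exact hinv x g hPx
  rw [← Set.ncard_coe_finset, hset, ← Nat.card_coe_set_eq, Nat.mul_comm]
  have h := MulAction.card_orbit_mul_card_stabilizer_eq_card_group (ConjAct H) x
  rw [← Nat.card_eq_fintype_card, ← Nat.card_eq_fintype_card, ← Nat.card_eq_fintype_card,
    ConjAct.stabilizer_eq_centralizer] at h
  have hcard : Nat.card (ConjAct H) = Nat.card H := rfl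
  rw [← hcard, ← h]
  exact Nat.mul_dvd_mul_left _ (Nat.dvd_factorial Nat.card_pos (hS x hPx))

end Cfsg.Agent.H75.BrauerFeit
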