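import Cfsg.Agent.H75.BrauerFeit.Counting

/-!
# Deep elements: the abstract bound
-/

set_option autoImplicit false
set_option linter.unusedSectionVars false

namespace Cfsg.Agent.H75.BrauerFeit

open Subgroup

variable {G : Type*} [Group G]

/-- `e ^ 5`-th power outside `Z`. -/
def IsDeep (Z : Subgroup G) (e : ℕ) (x : G) : Prop := x ^ e ^ 5 ∉ Z

theorem pow_not_mem {Z : Subgroup G} {e : ℕ} {x : G} (hx : IsDeep Z e x) {i : ℕ} (hi : i ≤ 5) :
    x ^ e ^ i ∉ Z := fun h => hx (by
  rw [show e ^ 5 = e ^ i * e ^ (5 - i) by rw [← pow_add, Nat.add_sub_cancel' hi], pow_mul]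
  exact pow_mem h _)

theorem linked {Z : Subgroup G} {e : ℕ}
    (hK : ∀ g : G, g ∉ Z → ∀ a b : G, Commute a g → Commute b g → Commute (a ^ e) (b ^ e))
    {x y : G} (hx : IsDeep Z e x) (hy : IsDeep Z e y) {i j : ℕ} (hi : i ≤ 4) (hj : j ≤ 4)
    (h : Commute (x ^ e ^ i) (y ^ e ^ j)) :
    Commute (x ^ e) (y ^ e ^ 2) ∧ Commute (x ^ e ^ 2) (y ^ e) := by
  have h1 : Commute (x ^ e) (y ^ e ^ (j + 1)) := by
    rw [pow_succ, pow_mul]
    exact hK _ (pow_not_mem hx (by omega : i ≤ 5)) _ _ (Commute.self_pow x _) h.symm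
  have h2 : Commute (x ^ e ^ 2) (y ^ e) := by
    rw [sq, pow_mul]
    exact hK _ (pow_not_mem hy (by omega : j + 1 ≤ 5)) _ _ h1 (Commute.self_pow y _)
  refine ⟨?_, h2⟩
  rw [sq, pow_mul]
  exact hK _ (pow_not_mem hx (by omega : 2 ≤ 5)) _ _ (Commute.self_pow x _) h2.symm

theorem exists_bound (R S : ℕ) (hR : 0 < R) : ∃ B : ℕ, ∀ {G : Type*} [Group G] [Finite G]
    (Z : Subgroup G) [Z.Normal] (e : ℕ), (∀ z ∈ Z, ∀ g : G, Commute z g) →
    (∀ g : G, g ∉ Z → ∀ a b : G, Commute a g → Commute b g → Commute (a ^ e) (b ^ e)) →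
    (∀ H : Subgroup G, Z ≤ H → ∀ g ∈ H, g ∉ Z → (∀ x ∈ H, Commute x g → x ^ e ^ 5 ∈ Z) →
      ∀ q : H.map (QuotientGroup.mk' Z), (q : G ⧸ Z) = (g : G ⧸ Z) →
        Nat.card (centralizer ({q} : Set (H.map (QuotientGroup.mk' Z)))) ≤ S) →
    (∀ H : Subgroup G, (∃ A : Subgroup G, (∀ a ∈ A, ∀ b ∈ A, Commute a b) ∧ ¬ A ≤ Z ∧
        ∀ h ∈ H, ∀ a ∈ A, h * a * h⁻¹ ∈ A) →
      ∃ AN : Subgroup G, AN ≤ H ∧ (∀ a ∈ AN, ∀ b ∈ AN, Commute a b) ∧ AN.relIndex H ≠ 0 ∧
        AN.relIndex H ≤ R ∧ ∀ x ∈ H, x ^ e ∈ AN) →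
    (¬ ∃ A : Subgroup G, (∀ a ∈ A, ∀ b ∈ A, Commute a b) ∧ ¬ A ≤ Z ∧
        ∀ h : G, ∀ a ∈ A, h * a * h⁻¹ ∈ A) →
    Nat.card (G ⧸ Z) ≤ B := by
  classical
  obtain ⟨B, hB⟩ := exists_equation_bound (2 * R) S.factorial (Nat.factorial_pos S)
  refine ⟨B, fun {G} _ _ Z _ e hZ hK hsmall hab hno => ?_⟩
  cases nonempty_fintype G
  let π := QuotientGroup.mk' Z
  let N := Nat.card (G ⧸ Z)
  have hNpos : 0 < N := Nat.card_pos
  -- deep elements and their classes
  let Deep := {x : G // IsDeep Z e x}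
  letI rel : Setoid Deep :=
    { r := fun x y => Commute (x.1 ^ e) (y.1 ^ e ^ 2)
      iseqv :=
        { refl := fun x => (Commute.refl _).pow_pow _ _
          symm := fun {x y} h => ((linked hK x.2 y.2 (i := 1) (j := 2) (by norm_num) (by norm_num)
            (by rw [pow_one]; exact h)).2).symm
          trans := fun {x y z} h h' => by
            have h'' := (linked hK y.2 z.2 (i := 1) (j := 2) (by norm_num) (by norm_num)
              (by rw [pow_one]; exact h')).2
            have h3 : Commute (x.1 ^ e ^ 2) (z.1 ^ e ^ 2 ^ 1) := by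
              rw [pow_one, sq, pow_mul, pow_mul]
              refine hK _ (pow_not_mem y.2 (by norm_num : 2 ≤ 5)) _ _ ?_ ?_
              · exact h
              · exact ((linked hK y.2 z.2 (i := 2) (j := 1) (by norm_num) (by norm_num)
                  (by rw [pow_one]; exact h'')).2).symm
            exact (linked hK x.2 z.2 (i := 2) (j := 2) (by norm_num) (by norm_num)
              (by simpa using h3)).1 } }
  let Cl := Quotient rel
  have hcl : ∀ x y : Deep, ∀ {i j : ℕ}, i ≤ 4 → j ≤ 4 → Commute (x.1 ^ e ^ i) (y.1 ^ e ^ j) →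
      (Quotient.mk rel x : Cl) = Quotient.mk rel y := fun x y i j hi hj h =>
    Quotient.sound (linked hK x.2 y.2 hi hj h).1
  have hconjDeep : ∀ (g : G) (x : Deep), IsDeep Z e (g * x.1 * g⁻¹) := fun g x h => x.2 (by
    rw [conj_pow] at h
    have := Subgroup.Normal.conj_mem (inferInstance : Z.Normal) _ h g⁻¹
    simpa [mul_assoc] using this)
  let sm : G → Deep → Deep := fun g x => ⟨g * x.1 * g⁻¹, hconjDeep g x⟩
  have hsm : ∀ g, ∀ x y : Deep, rel.r x y → rel.r (sm g x) (sm g y) := fun g x y h => by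
    show Commute ((g * x.1 * g⁻¹) ^ e) ((g * y.1 * g⁻¹) ^ e ^ 2)
    rw [conj_pow, conj_pow]
    exact h.map (MulAut.conj g).toMonoidHom
  letI : MulAction G Cl :=
    { smul := fun g => Quotient.map (sm g) (hsm g)
      one_smul := fun c => Quotient.inductionOn c fun x =>
        congrArg (Quotient.mk rel) (Subtype.ext (by simp [sm]))
      mul_smul := fun g h c => Quotient.inductionOn c fun x =>
        congrArg (Quotient.mk rel) (Subtype.ext (by simp [sm, mul_assoc])) }
  haveI : Finite Cl := Quotient.finite _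
  haveI := Fintype.ofFinite Cl
  haveI := Fintype.ofFinite (G ⧸ Z)
  -- elements attached to a class
  let Att : Cl → G → Prop := fun c g => ∃ x : Deep, Quotient.mk rel x = c ∧ Commute g (x.1 ^ e)
  let Bs : Cl → Finset (G ⧸ Z) := fun c =>
    Finset.univ.filter fun q => q ≠ 1 ∧ ∃ g : G, (g : G ⧸ Z) = q ∧ Att c g
  have hAttZ : ∀ c (g g' : G), (g : G ⧸ Z) = (g' : G ⧸ Z) → Att c g → Att c g' := by
    rintro c g g' h ⟨x, hxc, hcm⟩
    refine ⟨x, hxc, ?_⟩
    have hz := QuotientGroup.eq.1 h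
    have : g' = g * (g⁻¹ * g') := by group
    rw [this]
    exact hcm.mul_left (hZ _ hz _)
  have hdisj : ∀ g : G, g ∉ Z → ∀ c c', Att c g → Att c' g → c = c' := by
    rintro g hg c c' ⟨x, rfl, hx⟩ ⟨y, rfl, hy⟩
    have h := hK g hg _ _ hx.symm hy.symm
    rw [← pow_mul, ← pow_mul, ← sq] at h
    exact hcl x y (i := 2) (j := 2) (by norm_num) (by norm_num) h
  have hAttStab : ∀ g c, Att c g → g ∈ MulAction.stabilizer G c := by
    rintro g c ⟨x, rfl, hx⟩
    show Quotient.mk rel (sm g x) = Quotient.mk rel x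
    refine hcl _ _ (i := 1) (j := 1) (by norm_num) (by norm_num) ?_
    show Commute ((g * x.1 * g⁻¹) ^ e ^ 1) (x.1 ^ e ^ 1)
    rw [pow_one, conj_pow, hx.eq, mul_inv_cancel_right]
  have hrepStab : ∀ x : Deep, x.1 ∈ MulAction.stabilizer G (Quotient.mk rel x : Cl) := fun x =>
    hAttStab _ _ ⟨x, rfl, Commute.self_pow _ _⟩
  let AG : Cl → Subgroup G := fun c =>
    closure {a : G | ∃ x : Deep, Quotient.mk rel x = c ∧ a = x.1 ^ e ^ 2}
  have hAG : ∀ c : Cl, (∀ a ∈ AG c, ∀ b ∈ AG c, Commute a b) ∧ ¬ AG c ≤ Z ∧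
      ∀ h ∈ MulAction.stabilizer G c, ∀ a ∈ AG c, h * a * h⁻¹ ∈ AG c := by
    intro c
    have hcom : ∀ a ∈ {a : G | ∃ x : Deep, Quotient.mk rel x = c ∧ a = x.1 ^ e ^ 2},
        ∀ b ∈ {a : G | ∃ x : Deep, Quotient.mk rel x = c ∧ a = x.1 ^ e ^ 2}, Commute a b := by
      rintro _ ⟨x, rfl, rfl⟩ _ ⟨y, hy, rfl⟩
      have h : Commute (x.1 ^ e) (y.1 ^ e ^ 2) := Quotient.exact hy.symm
      rw [sq, pow_mul x.1]
      rw [sq] at h
      exact h.pow_left e
    refine ⟨fun a ha b hb => ?_, ?_, fun h hh a ha => ?_⟩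
    · haveI := Subgroup.isMulCommutative_closure (k := {a : G | ∃ x : Deep,
        Quotient.mk rel x = c ∧ a = x.1 ^ e ^ 2}) (fun u hu w hw => hcom u hu w hw)
      exact congrArg Subtype.val ((IsMulCommutative.is_comm (M := AG c)).comm ⟨a, ha⟩ ⟨b, hb⟩)
    · obtain ⟨x, rfl⟩ := Quotient.exists_rep c
      exact fun hle => pow_not_mem x.2 (by norm_num : 2 ≤ 5) (hle (subset_closure ⟨x, rfl, rfl⟩))
    · have hle : AG c ≤ (AG c).comap (MulAut.conj h).toMonoidHom := by
        refine (closure_le _).2 ?_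
        rintro _ ⟨x, rfl, rfl⟩
        exact subset_closure ⟨sm h x, hh, (conj_pow (i := e ^ 2)).symm⟩
      exact hle ha
  have hb2 : ∀ c : Cl, 2 ≤ (MulAction.stabilizer G c).index := by
    intro c
    have h0 : (MulAction.stabilizer G c).index ≠ 0 := Subgroup.index_ne_zero_of_finite
    have h1 : (MulAction.stabilizer G c).index ≠ 1 := fun h => by
      obtain ⟨h1, h2, h3⟩ := hAG c
      exact hno ⟨AG c, h1, h2, fun g => h3 g (by rw [Subgroup.index_eq_one.1 h]; exact mem_top g)⟩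
    omega
  let Nb : Cl → Subgroup (G ⧸ Z) := fun c => (MulAction.stabilizer G c).map π
  have hZstab : ∀ c : Cl, Z ≤ MulAction.stabilizer G c := fun c z hz => by
    obtain ⟨x, rfl⟩ := Quotient.exists_rep c
    exact hAttStab z _ ⟨x, rfl, hZ z hz _⟩
  have hab' : ∀ c : Cl, Nat.card (Nb c) * (MulAction.stabilizer G c).index = N := fun c => by
    rw [← Subgroup.index_map_eq _ (QuotientGroup.mk'_surjective Z)
      (by rw [QuotientGroup.ker_mk']; exact hZstab c), Subgroup.card_mul_index]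
  -- the elements of a stabiliser
  have hBsub : ∀ c, ∀ q ∈ Bs c, q ∈ Nb c := by
    intro c q hq
    obtain ⟨-, g, rfl, hg⟩ := (Finset.mem_filter.1 hq).2
    exact ⟨g, hAttStab g c hg, rfl⟩
  have hfew : ∀ c, Nat.card (Nb c) ≤ 2 * R * (Bs c).card := by
    intro c
    obtain ⟨AN, hANH, hANc, hANi, hANR, hANe⟩ := hab (MulAction.stabilizer G c) ⟨AG c, hAG c⟩
    obtain ⟨x, rfl⟩ := Quotient.exists_rep c
    set c : Cl := Quotient.mk rel x with hc
    have hx : x.1 ^ e ∈ AN := hANe _ (hrepStab x)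
    let Ab : Subgroup (G ⧸ Z) := AN.map π
    have h1 : Ab.relIndex (Nb c) ∣ AN.relIndex (MulAction.stabilizer G c) := by
      rw [Subgroup.relIndex_map_map]
      rw [show MulAction.stabilizer G c ⊔ π.ker = MulAction.stabilizer G c from
        sup_eq_left.2 (by rw [QuotientGroup.ker_mk']; exact hZstab c)]
      exact Subgroup.relIndex_dvd_of_le_left _ le_sup_left
    have h2 : Nat.card (Nb c) ≤ R * Nat.card Ab := by
      have hle : Ab ≤ Nb c := Subgroup.map_mono hANH
      have h3 := Subgroup.relIndex_mul_index hle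
      have h4 : Nat.card Ab * Ab.relIndex (Nb c) = Nat.card (Nb c) := by
        rw [← Nat.card_congr (Subgroup.subgroupOfEquivOfLe hle).toEquiv]
        exact Subgroup.card_mul_index _
      rw [← h4, mul_comm]
      exact Nat.mul_le_mul_right _ ((Nat.le_of_dvd (Nat.pos_of_ne_zero hANi) h1).trans hANR)
    have hsub : (Finset.univ.filter fun q => q ∈ Ab).erase 1 ⊆ Bs c := by
      intro q hq
      obtain ⟨hq1, hq2⟩ := Finset.mem_erase.1 hq
      obtain ⟨a, ha, rfl⟩ := (Finset.mem_filter.1 hq2).2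
      exact Finset.mem_filter.2 ⟨Finset.mem_univ _, hq1, a, rfl, x, hc.symm, hANc a ha _ hx⟩
    have hcard : Nat.card Ab - 1 ≤ (Bs c).card := by
      refine le_trans ?_ (Finset.card_le_card hsub)
      rw [Finset.card_erase_of_mem (Finset.mem_filter.2 ⟨Finset.mem_univ _, one_mem _⟩),
        Nat.card_eq_fintype_card, Fintype.card_subtype]
    have h5 : 2 ≤ Nat.card Ab := by
      haveI : Nontrivial Ab := ⟨⟨1, ⟨π (x.1 ^ e), ⟨_, hx, rfl⟩⟩, fun h => pow_not_mem x.2
        (by norm_num : 1 ≤ 5) (by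
          rw [pow_one, ← QuotientGroup.eq_one_iff]; exact (congrArg Subtype.val h).symm)⟩⟩
      exact Finite.one_lt_card
    calc Nat.card (Nb c) ≤ R * Nat.card Ab := h2
      _ ≤ R * (2 * (Bs c).card) := Nat.mul_le_mul_left R (by omega)
      _ = 2 * R * (Bs c).card := by ring
  -- divisibility inside a stabiliser
  have hdiv : ∀ c, Nat.card (Nb c) ∣ S.factorial * ((Bs c).card + 1) := by
    intro c
    let P : Nb c → Prop := fun q => (q : G ⧸ Z) ≠ 1 ∧ (q : G ⧸ Z) ∉ Bs c
    have hP := card_dvd_of_small P S ?_ ?_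
    · have hsum : Nat.card {q : Nb c // P q} + ((Bs c).card + 1) = Nat.card (Nb c) := by
        have e1 : Nat.card {q : Nb c // ¬ P q} = (Bs c).card + 1 := by
          rw [← Finset.card_insert_of_notMem (a := (1 : G ⧸ Z))
            (fun h => (Finset.mem_filter.1 h).2.1 rfl), ← Fintype.card_coe, ← Nat.card_eq_fintype_card]
          refine Nat.card_congr
            { toFun := fun q => ⟨(q.1 : G ⧸ Z), ?_⟩
              invFun := fun q => ⟨⟨q.1, ?_⟩, ?_⟩
              left_inv := fun _ => rfl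
              right_inv := fun _ => rfl }
          · by_contra h
            rw [Finset.mem_insert, not_or] at h
            exact q.2 h
          · rcases Finset.mem_insert.1 q.2 with h | h
            · rw [h]; exact one_mem _
            · exact hBsub c _ h
          · rintro ⟨h1, h2⟩
            rcases Finset.mem_insert.1 q.2 with h | h
            · exact h1 h
            · exact h2 h
        rw [← e1, ← Nat.card_sum]
        exact Nat.card_congr (Equiv.sumCompl P)
      have h : Nat.card (Nb c) ∣ S.factorial * (Nat.card {q : Nb c // P q} + ((Bs c).card + 1)) := by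
        rw [hsum]
        exact dvd_mul_left _ _
      rw [Nat.mul_add] at h
      exact (Nat.dvd_add_right hP).1 h
    · intro q r hq
      refine ⟨fun h => hq.1 ?_, fun h => hq.2 ?_⟩
      · have h' : (r : G ⧸ Z) * q * (r : G ⧸ Z)⁻¹ = 1 := h
        exact conj_eq_one_iff.1 h'
      · obtain ⟨g₁, hg₁, hrg⟩ := r.2
        obtain ⟨-, g, hg, x, hxc, hcm⟩ := (Finset.mem_filter.1 h).2
        refine Finset.mem_filter.2 ⟨Finset.mem_univ _, hq.1, g₁⁻¹ * g * g₁, ?_, sm g₁⁻¹ x, ?_, ?_⟩
        · rw [QuotientGroup.mk_mul, QuotientGroup.mk_mul, QuotientGroup.mk_inv, hg,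
            show (g₁ : G ⧸ Z) = r from hrg]
          simp [mul_assoc]
        · rw [← hxc] at hg₁
          have := MulAction.mem_stabilizer_iff.1 (inv_mem hg₁)
          exact this.trans hxc
        · show Commute _ ((g₁⁻¹ * x.1 * g₁⁻¹⁻¹) ^ e)
          rw [conj_pow]
          have := hcm.map (MulAut.conj g₁⁻¹).toMonoidHom
          simpa [MulAut.conj_apply] using this
    · intro q hq
      obtain ⟨g, hgH, hgq⟩ := q.2
      refine hsmall _ (hZstab c) g hgH (fun hgZ => hq.1 ?_) (fun x hxH hxg => ?_) q hgq.symm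
      · rw [← hgq]; exact (QuotientGroup.eq_one_iff g).2 hgZ
      · by_contra hx
        obtain ⟨AN, hANH, hANc, -, -, hANe⟩ := hab (MulAction.stabilizer G c) ⟨AG c, hAG c⟩
        obtain ⟨y, hy⟩ := Quotient.exists_rep c
        have hyH : y.1 ∈ MulAction.stabilizer G c := hy ▸ hrepStab y
        have hxc : (Quotient.mk rel ⟨x, hx⟩ : Cl) = c := (hcl ⟨x, hx⟩ y (i := 1) (j := 1)
          (by norm_num) (by norm_num) (by
            rw [pow_one]; exact hANc _ (hANe x hxH) _ (hANe _ hyH))).trans hy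
        exact hq.2 (Finset.mem_filter.2 ⟨Finset.mem_univ _, hq.1, g, hgq, ⟨x, hx⟩, hxc,
          hxg.symm.pow_right e⟩)
  -- the small elements of the whole group
  let Sm : G ⧸ Z → Prop := fun q => q ≠ 1 ∧ ∀ c, q ∉ Bs c
  have hSm : N ∣ S.factorial * Nat.card {q : G ⧸ Z // Sm q} := by
    let eT : (⊤ : Subgroup G).map π ≃* G ⧸ Z :=
      (MulEquiv.subgroupCongr (Subgroup.map_top_of_surjective π (QuotientGroup.mk'_surjective Z))).trans
        Subgroup.topEquiv
    refine card_dvd_of_small Sm S (fun q r hq => ⟨fun h => hq.1 (conj_eq_one_iff.1 h), fun c h => ?_⟩)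
      fun q hq => ?_
    · obtain ⟨g₁, rfl⟩ := QuotientGroup.mk'_surjective Z r
      obtain ⟨-, g, hg, x, hxc, hcm⟩ := (Finset.mem_filter.1 h).2
      refine hq.2 (g₁⁻¹ • c) (Finset.mem_filter.2 ⟨Finset.mem_univ _, hq.1, g₁⁻¹ * g * g₁, ?_,
        sm g₁⁻¹ x, ?_, ?_⟩)
      · rw [QuotientGroup.mk_mul, QuotientGroup.mk_mul, QuotientGroup.mk_inv, hg]
        simp [mul_assoc]
      · rw [← hxc]; rfl
      · show Commute _ ((g₁⁻¹ * x.1 * g₁⁻¹⁻¹) ^ e)
        rw [conj_pow]
        have := hcm.map (MulAut.conj g₁⁻¹).toMonoidHom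
        simpa [MulAut.conj_apply] using this
    · obtain ⟨g, rfl⟩ := QuotientGroup.mk'_surjective Z q
      let q' : (⊤ : Subgroup G).map π := ⟨π g, ⟨g, mem_top g, rfl⟩⟩
      have h := hsmall ⊤ le_top g (mem_top g) (fun hgZ => hq.1 ((QuotientGroup.eq_one_iff g).2 hgZ))
        (fun x _ hxg => by
          by_contra hx
          exact hq.2 (Quotient.mk rel ⟨x, hx⟩) (Finset.mem_filter.2 ⟨Finset.mem_univ _, hq.1, g, rfl,
            ⟨x, hx⟩, rfl, hxg.symm.pow_right e⟩)) q' rfl
      refine le_trans (le_of_eq (Nat.card_congr (Equiv.subtypeEquiv eT.symm.toEquiv fun r => ?_))) h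
      rw [Subgroup.mem_centralizer_singleton_iff, Subgroup.mem_centralizer_singleton_iff]
      constructor
      · exact fun hr => Subtype.ext hr
      · exact fun hr => congrArg Subtype.val hr
  -- counting
  have hBdisj : ∀ c c', c ≠ c' → Disjoint (Bs c) (Bs c') := by
    intro c c' hne
    rw [Finset.disjoint_left]
    intro q hq hq'
    obtain ⟨hq1, g, hg, hat⟩ := (Finset.mem_filter.1 hq).2
    obtain ⟨-, g', hg', hat'⟩ := (Finset.mem_filter.1 hq').2
    exact hne (hdisj g (fun hgZ => hq1 (hg ▸ (QuotientGroup.eq_one_iff g).2 hgZ)) c c' hat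
      (hAttZ c' g' g (hg'.trans hg.symm) hat'))
  have hcount : N = 1 + Nat.card {q : G ⧸ Z // Sm q} + ∑ c, (Bs c).card := by
    have hU : (Finset.univ : Finset (G ⧸ Z)) =
        insert 1 ((Finset.univ.filter Sm) ∪ Finset.univ.biUnion Bs) := by
      ext q
      simp only [Finset.mem_univ, true_iff, Finset.mem_insert, Finset.mem_union, Finset.mem_filter,
        Finset.mem_biUnion, true_and]
      by_cases h1 : q = 1
      · exact Or.inl h1
      by_cases h2 : ∃ c, q ∈ Bs c
      · exact Or.inr (Or.inr h2)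
      · push Not at h2
        exact Or.inr (Or.inl ⟨h1, h2⟩)
    show Nat.card (G ⧸ Z) = _
    rw [Nat.card_eq_fintype_card, ← Finset.card_univ, hU, Finset.card_insert_of_notMem,
      Finset.card_union_of_disjoint, Finset.card_biUnion (fun c _ c' _ h => hBdisj c c' h),
      Nat.card_eq_fintype_card, Fintype.card_subtype]
    · ring
    · rw [Finset.disjoint_left]
      intro q hq hq'
      obtain ⟨c, -, hc⟩ := Finset.mem_biUnion.1 hq'
      exact (Finset.mem_filter.1 hq).2.2 c hc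
    · rw [Finset.mem_union, Finset.mem_biUnion]
      rintro (h | ⟨c, -, h⟩)
      · exact (Finset.mem_filter.1 h).2.1 rfl
      · exact (Finset.mem_filter.1 h).2.1 rfl
  -- orbits
  haveI := Fintype.ofFinite (MulAction.orbitRel.Quotient G Cl)
  let mkO : Cl → MulAction.orbitRel.Quotient G Cl := Quotient.mk''
  have hinv : ∀ (g : G) (c : Cl), (Bs (g • c)).card = (Bs c).card := by
    have hle : ∀ (g : G) (c : Cl), (Bs c).card ≤ (Bs (g • c)).card := fun g c => by
      refine Finset.card_le_card_of_injOn (fun q => (g : G ⧸ Z) * q * (g : G ⧸ Z)⁻¹) ?_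
        (fun a _ b _ h => by simpa using h)
      intro q hq
      obtain ⟨hq1, g₀, rfl, x, hxc, hcm⟩ := (Finset.mem_filter.1 (Finset.mem_coe.1 hq)).2
      refine Finset.mem_coe.2 (Finset.mem_filter.2 ⟨Finset.mem_univ _,
        fun h => hq1 (conj_eq_one_iff.1 h), g * g₀ * g⁻¹, rfl, sm g x, by rw [← hxc]; rfl, ?_⟩)
      show Commute _ ((g * x.1 * g⁻¹) ^ e)
      rw [conj_pow]
      exact hcm.map (MulAut.conj g).toMonoidHom
    exact fun g c => le_antisymm (by simpa using hle g⁻¹ (g • c)) (hle g c)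
  let T := (Finset.univ : Finset Cl).image mkO
  let rep : MulAction.orbitRel.Quotient G Cl → Cl := fun o => o.out
  let b : MulAction.orbitRel.Quotient G Cl → ℕ := fun o => (MulAction.stabilizer G (rep o)).index
  let a : MulAction.orbitRel.Quotient G Cl → ℕ := fun o => Nat.card (Nb (rep o))
  have hfibre : ∀ o ∈ T, (Finset.univ.filter fun c => mkO c = o).card = b o := by
    intro o _
    show _ = (MulAction.stabilizer G (rep o)).index
    rw [MulAction.index_stabilizer, ← Set.ncard_coe_finset]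
    congr 1
    ext c
    simp only [Finset.coe_filter, Finset.mem_univ, true_and, Set.mem_ofPred_eq]
    conv_lhs => rw [← Quotient.out_eq' o]
    rw [Quotient.eq'', MulAction.orbitRel_apply]
  have hconst : ∀ o ∈ T, ∑ c ∈ Finset.univ.filter (fun c => mkO c = o), ((Bs c).card : ℤ) =
      b o * (Bs (rep o)).card := by
    intro o ho
    rw [← hfibre o ho, ← nsmul_eq_mul, ← Finset.sum_const]
    refine Finset.sum_congr rfl fun c hc => ?_
    have h := (Finset.mem_filter.1 hc).2
    rw [← Quotient.out_eq' o, Quotient.eq'', MulAction.orbitRel_apply] at h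
    obtain ⟨g, rfl⟩ := h
    exact congrArg Nat.cast (hinv g _)
  have hsum : (∑ c, ((Bs c).card : ℤ)) = ∑ o ∈ T, (b o : ℤ) * (Bs (rep o)).card := by
    rw [← Finset.sum_fiberwise_of_maps_to (g := mkO) (t := T)
      (fun c _ => Finset.mem_image_of_mem _ (Finset.mem_univ c))]
    exact Finset.sum_congr rfl hconst
  have hcards : (Fintype.card Cl : ℤ) = ∑ o ∈ T, (b o : ℤ) := by
    rw [← Finset.card_univ, Finset.card_eq_sum_card_fiberwise (f := mkO) (t := T)
      (fun c _ => Finset.mem_image_of_mem _ (Finset.mem_univ c)), Nat.cast_sum]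
    exact Finset.sum_congr rfl fun o ho => by rw [hfibre o ho]
  have habo : ∀ o ∈ T, a o * b o = N ∧ 2 ≤ b o := fun o _ => ⟨hab' _, hb2 _⟩
  have ht : T.card ≤ 2 * R := by
    have h1 : ∀ o ∈ T, (N : ℤ) ≤ 2 * R * ((b o : ℤ) * (Bs (rep o)).card) := by
      intro o ho
      rw [← (habo o ho).1]
      have := Nat.mul_le_mul_right (b o) (hfew (rep o))
      push_cast
      calc (a o : ℤ) * b o ≤ (2 * R * (Bs (rep o)).card : ℕ) * (b o : ℤ) := by exact_mod_cast this
        _ = _ := by push_cast; ring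
    have h2 := Finset.card_nsmul_le_sum T _ _ h1
    rw [← Finset.mul_sum, ← hsum, nsmul_eq_mul] at h2
    have h3 : (∑ c, ((Bs c).card : ℤ)) ≤ N := by
      rw [← Nat.cast_sum]
      exact_mod_cast (by omega : ∑ c, (Bs c).card ≤ N)
    have h4 : (T.card : ℤ) * N ≤ (2 * R : ℤ) * N :=
      h2.trans (mul_le_mul_of_nonneg_left h3 (by positivity))
    have h5 : T.card * N ≤ 2 * R * N := by exact_mod_cast h4
    exact Nat.le_of_mul_le_mul_right h5 hNpos
  refine hB N hNpos T a b ht habo ?_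
  have hterm : ∀ o ∈ T, (N : ℤ) ∣ (S.factorial : ℤ) * ((b o : ℤ) * ((Bs (rep o)).card + 1)) := by
    intro o ho
    obtain ⟨u, hu⟩ := hdiv (rep o)
    refine ⟨u, ?_⟩
    rw [← (habo o ho).1]
    calc (S.factorial : ℤ) * ((b o : ℤ) * ((Bs (rep o)).card + 1))
        = (b o : ℤ) * ((S.factorial * ((Bs (rep o)).card + 1) : ℕ) : ℤ) := by push_cast; ring
      _ = _ := by rw [hu]; show _ = ((Nat.card (Nb (rep o)) * b o : ℕ) : ℤ) * u; push_cast; ring
  have h6 : (S.factorial : ℤ) * ((∑ o ∈ T, (b o : ℤ)) - 1) =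
      ∑ o ∈ T, (S.factorial : ℤ) * ((b o : ℤ) * ((Bs (rep o)).card + 1)) +
        ((S.factorial * Nat.card {q : G ⧸ Z // Sm q} : ℕ) : ℤ) - (S.factorial : ℤ) * N := by
    have hN : (N : ℤ) = 1 + (Nat.card {q : G ⧸ Z // Sm q} : ℤ) + ∑ c, ((Bs c).card : ℤ) := by
      rw [hcount]; push_cast; rfl
    rw [hN, hsum, ← Finset.mul_sum]
    simp only [mul_add, mul_one, Finset.sum_add_distrib]
    push_cast
    ring
  rw [h6]
  exact dvd_sub (dvd_add (Finset.dvd_sum hterm) (Int.natCast_dvd_natCast.2 hSm)) (dvd_mul_left _ _)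

end Cfsg.Agent.H75.BrauerFeit
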