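import Mathlib

/-!
# Finite linear groups in characteristic `p`: elementary facts for the Jordan bound
-/

set_option autoImplicit false
set_option linter.unusedSectionVars false

namespace Cfsg.Agent.H75.BrauerFeit

open Module

variable {F V G : Type*} [Field F] [AddCommGroup V] [Module F V] [FiniteDimensional F V] [Group G]

/-- The elements acting as scalars. -/
def scal (ρ : Representation F G V) : Subgroup G where
  carrier := {g | ∃ c : F, ∀ v, ρ g v = c • v}
  one_mem' := ⟨1, fun v => by simp⟩
  mul_mem' := by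
    rintro a b ⟨c, hc⟩ ⟨d, hd⟩
    exact ⟨c * d, fun v => by rw [map_mul, Module.End.mul_apply, hd, map_smul, hc, mul_comm, smul_smul]⟩
  inv_mem' := by
    rintro a ⟨c, hc⟩
    refine ⟨c⁻¹, fun v => ?_⟩
    have hv : c • ρ a⁻¹ v = v := by
      rw [← hc, ← Module.End.mul_apply, ← map_mul, mul_inv_cancel, map_one, Module.End.one_apply]
    rcases eq_or_ne c 0 with rfl | hc0
    · rw [zero_smul] at hv
      simp [← hv]
    · conv_rhs => rw [← hv, inv_smul_smul₀ hc0]

theorem commute_scal (ρ : Representation F G V) (hρ : Function.Injective ρ) {z : G}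
    (hz : z ∈ scal ρ) (g : G) : Commute z g := by
  obtain ⟨c, hc⟩ := hz
  exact hρ (LinearMap.ext fun v => by simp [map_mul, hc])

theorem normal_scal (ρ : Representation F G V) (hρ : Function.Injective ρ) : (scal ρ).Normal :=
  ⟨fun z hz g => by rwa [← (commute_scal ρ hρ hz g).eq, mul_inv_cancel_right]⟩

/-- `G` preserves a proper nonzero subspace. -/
def Reducible (ρ : Representation F G V) (H : Subgroup G) : Prop :=
  ∃ W : Submodule F V, W ≠ ⊥ ∧ W ≠ ⊤ ∧ ∀ h ∈ H, ∀ w ∈ W, ρ h w ∈ W

/-- The centraliser of an element outside the scalars is reducible. -/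
theorem reducible_centralizer [IsAlgClosed F] (ρ : Representation F G V) {g : G} (hg : g ∉ scal ρ) :
    Reducible ρ (Subgroup.centralizer ({g} : Set G)) := by
  rcases subsingleton_or_nontrivial V with hV | hV
  · exact absurd ⟨1, fun v => Subsingleton.elim _ _⟩ hg
  obtain ⟨c, hc⟩ := Module.End.exists_eigenvalue (ρ g : Module.End F V)
  refine ⟨Module.End.eigenspace (ρ g) c, hc, fun h => hg ⟨c, fun v => ?_⟩, fun h hh w hw => ?_⟩
  · exact Module.End.mem_eigenspace_iff.1 (h ▸ Submodule.mem_top)
  · rw [Module.End.mem_eigenspace_iff] at hw ⊢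
    rw [← Module.End.mul_apply, ← map_mul, (Subgroup.mem_centralizer_singleton_iff.1 hh).symm,
      map_mul, Module.End.mul_apply, hw, map_smul]

/-- A common eigenvector of a commuting family. -/
theorem exists_common_eigen [IsAlgClosed F] [Nontrivial V] (ρ : Representation F G V)
    (A : Subgroup G) (hA : ∀ a ∈ A, ∀ b ∈ A, Commute a b) :
    ∃ v : V, v ≠ 0 ∧ ∀ a ∈ A, ∃ c : F, ρ a v = c • v := by
  classical
  have hex : ∃ d, ∃ W : Submodule F V, W ≠ ⊥ ∧ (∀ a ∈ A, ∀ w ∈ W, ρ a w ∈ W) ∧ finrank F W = d :=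
    ⟨_, ⊤, top_ne_bot, fun a _ w _ => Submodule.mem_top, rfl⟩
  obtain ⟨W, hW0, hWi, hWd⟩ := Nat.find_spec hex
  haveI : Nontrivial W := Submodule.nontrivial_iff_ne_bot.2 hW0
  obtain ⟨v, hv, hv0⟩ := Submodule.exists_mem_ne_zero_of_ne_bot hW0
  refine ⟨v, hv0, fun a ha => ?_⟩
  let f : Module.End F W := (ρ a).restrict (hWi a ha)
  obtain ⟨c, hc⟩ := Module.End.exists_eigenvalue f
  let W' : Submodule F V := W ⊓ Module.End.eigenspace (ρ a) c
  have hle : finrank F W ≤ finrank F W' := by
    rw [hWd]
    refine Nat.find_min' hex ⟨W', ?_, ?_, rfl⟩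
    · obtain ⟨w, hw, hw0⟩ := Submodule.exists_mem_ne_zero_of_ne_bot hc
      intro h
      refine hw0 (Subtype.ext ?_)
      have : (w : V) ∈ W' := ⟨w.2, Module.End.mem_eigenspace_iff.2
        (congrArg Subtype.val (Module.End.mem_eigenspace_iff.1 hw))⟩
      rwa [h, Submodule.mem_bot] at this
    · rintro b hb w ⟨hw, hwc⟩
      refine ⟨hWi b hb w hw, ?_⟩
      rw [SetLike.mem_coe, Module.End.mem_eigenspace_iff] at hwc ⊢
      rw [← Module.End.mul_apply, ← map_mul, (hA a ha b hb).eq, map_mul, Module.End.mul_apply, hwc,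
        map_smul]
  refine ⟨c, Module.End.mem_eigenspace_iff.1 (?_ : v ∈ Module.End.eigenspace (ρ a) c)⟩
  have : W' = W := Submodule.eq_of_le_of_finrank_le inf_le_left hle
  exact (this.symm ▸ hv : v ∈ W').2

theorem card_roots_le (E : ℕ) (hE : 0 < E) : Nat.card {x : F // x ^ E = 1} ≤ E := by
  classical
  have h : ∀ x : F, x ^ E = 1 ↔ x ∈ (Polynomial.nthRoots E (1 : F)).toFinset := fun x => by
    rw [Multiset.mem_toFinset, Polynomial.mem_nthRoots hE]
  rw [Nat.card_congr (Equiv.subtypeEquivRight h), Nat.card_eq_fintype_card, Fintype.card_coe]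
  exact (Multiset.toFinset_card_le _).trans (Polynomial.card_nthRoots E 1)

theorem finite_roots (E : ℕ) (hE : 0 < E) : Finite {x : F // x ^ E = 1} := by
  classical
  have h : ∀ x : F, x ^ E = 1 ↔ x ∈ (Polynomial.nthRoots E (1 : F)).toFinset := fun x => by
    rw [Multiset.mem_toFinset, Polynomial.mem_nthRoots hE]
  exact Finite.of_equiv _ (Equiv.subtypeEquivRight h).symm

/-- An element of `p'`-order which is unipotent of degree two is trivial. -/
theorem eq_one_of_unipotent (p : ℕ) [Fact p.Prime] [CharP F p] (ρ : Representation F G V)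
    (hρ : Function.Injective ρ) (W : Submodule F V) {g : G}
    (h1 : ∀ w ∈ W, ρ g w = w) (h2 : ∀ v, ρ g v - v ∈ W) : g ^ p = 1 := by
  refine hρ ?_
  have hz : (ρ g - 1) * (ρ g - 1) = 0 := LinearMap.ext fun v => by
    simp only [Module.End.mul_apply, LinearMap.sub_apply, Module.End.one_apply, LinearMap.zero_apply]
    rw [sub_eq_zero, h1 _ (h2 v)]
  rcases subsingleton_or_nontrivial V with hV | hV
  · exact Subsingleton.elim _ _
  haveI : CharP (Module.End F V) p := charP_of_injective_algebraMap' F p
  rw [map_pow, map_one, show ρ g = (ρ g - 1) + 1 by abel,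
    add_pow_char_of_commute p (Commute.one_right _), one_pow]
  have : (ρ g - 1) ^ p = 0 := pow_eq_zero_of_le (Fact.out : p.Prime).two_le (by rw [sq, hz])
  rw [this, zero_add]

/-- In an abelian linear group of `p'`-order there are at most `E ^ n` solutions of `x ^ E = 1`. -/
theorem card_torsion_le (p : ℕ) [Fact p.Prime] [CharP F p] [IsAlgClosed F] (E : ℕ) (hE : 0 < E)
    (n : ℕ) : ∀ (V : Type*) [AddCommGroup V] [Module F V] [FiniteDimensional F V] (D : Type*)
      [CommGroup D] [Finite D] (ρ : Representation F D V), finrank F V = n → Function.Injective ρ →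
      (∀ d : D, (orderOf d).Coprime p) → Nat.card {d : D // d ^ E = 1} ≤ E ^ n := by
  induction n with
  | zero =>
    intro V _ _ _ D _ _ ρ hn hρ _
    haveI : Subsingleton V := Module.finrank_zero_iff.1 hn
    haveI : Subsingleton D := ⟨fun a b => hρ (LinearMap.ext fun v => Subsingleton.elim _ _)⟩
    exact Finite.card_le_one_iff_subsingleton.2 inferInstance
  | succ n ih =>
    intro V _ _ _ D _ _ ρ hn hρ hp
    haveI : Nontrivial V := Module.nontrivial_of_finrank_eq_succ hn
    obtain ⟨v, hv0, hv⟩ := exists_common_eigen ρ ⊤ fun a _ b _ => Commute.all a b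
    choose c hc using fun d : D => hv d (Subgroup.mem_top d)
    set W : Submodule F V := F ∙ v with hW
    have hWi : ∀ d : D, W ≤ W.comap (ρ d) := fun d => by
      rw [hW, Submodule.span_singleton_le_iff_mem, Submodule.mem_comap, hc]
      exact Submodule.smul_mem _ _ (Submodule.mem_span_singleton_self v)
    let ρq : Representation F D (V ⧸ W) :=
      { toFun := fun d => W.mapQ W (ρ d) (hWi d)
        map_one' := Submodule.linearMap_qext _ (LinearMap.ext fun x => by simp)
        map_mul' := fun a b => Submodule.linearMap_qext _ (LinearMap.ext fun x => by simp) }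
    let K : Subgroup D := ρq.ker
    let ρ' : Representation F (D ⧸ K) (V ⧸ W) := QuotientGroup.lift K ρq (le_refl _)
    have hρ' : Function.Injective ρ' := by
      rintro ⟨a⟩ ⟨b⟩ hab
      refine QuotientGroup.eq.2 ?_
      show ρq (a⁻¹ * b) = 1
      rw [map_mul, ← show ρq a = ρq b from hab, ← map_mul, inv_mul_cancel, map_one]
    have hrank : finrank F (V ⧸ W) = n := by
      have h := W.finrank_quotient_add_finrank
      have h1 : finrank F W = 1 := finrank_span_singleton hv0
      omega
    have hih := ih (V ⧸ W) (D ⧸ K) ρ' hrank hρ' fun d => by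
      induction d using QuotientGroup.induction_on with
      | H x => exact (hp x).of_dvd_left (orderOf_map_dvd (QuotientGroup.mk' K) x)
    haveI := finite_roots (F := F) E hE
    have hcpow : ∀ d : D, d ^ E = 1 → c d ^ E = 1 := fun d hd => by
      have h : ∀ k : ℕ, ρ (d ^ k) v = (c d) ^ k • v := fun k => by
        induction k with
        | zero => simp
        | succ k ihk =>
          rw [pow_succ', map_mul, Module.End.mul_apply, ihk, map_smul, hc, smul_smul, ← pow_succ]
      have h1 := h E
      rw [hd, map_one, Module.End.one_apply] at h1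
      exact smul_left_injective F hv0 (h1.symm.trans (one_smul F v).symm)
    let φ : {d : D // d ^ E = 1} → {x : F // x ^ E = 1} × {q : D ⧸ K // q ^ E = 1} := fun d =>
      (⟨c d.1, hcpow d.1 d.2⟩, ⟨(d.1 : D ⧸ K), by rw [← QuotientGroup.mk_pow, d.2]; rfl⟩)
    have hφ : Function.Injective φ := by
      rintro ⟨a, ha⟩ ⟨b, hb⟩ hab
      have h1 : c a = c b := congrArg (fun z => z.1.1) hab
      have h2 : (a : D ⧸ K) = (b : D ⧸ K) := congrArg (fun z => z.2.1) hab
      have h2' : ρq (a⁻¹ * b) = 1 := QuotientGroup.eq.1 h2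
      have hpow : (a⁻¹ * b) ^ p = 1 := by
        refine eq_one_of_unipotent p ρ hρ W ?_ fun x => ?_
        · intro w hw
          obtain ⟨r, rfl⟩ := Submodule.mem_span_singleton.1 hw
          rw [map_smul]
          congr 1
          have : ρ b v = ρ a v := by rw [hc, hc, h1]
          rw [map_mul, Module.End.mul_apply, this, ← Module.End.mul_apply, ← map_mul,
            inv_mul_cancel, map_one, Module.End.one_apply]
        · exact (Submodule.Quotient.eq W).1 (LinearMap.congr_fun h2' (Submodule.Quotient.mk x))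
      have h3 : orderOf (a⁻¹ * b) = 1 :=
        Nat.eq_one_of_dvd_coprimes (hp _) dvd_rfl (orderOf_dvd_of_pow_eq_one hpow)
      exact Subtype.ext (inv_mul_eq_one.1 (orderOf_eq_one_iff.1 h3))
    calc Nat.card {d : D // d ^ E = 1}
        ≤ Nat.card ({x : F // x ^ E = 1} × {q : D ⧸ K // q ^ E = 1}) :=
          Nat.card_le_card_of_injective φ hφ
      _ = _ := Nat.card_prod _ _
      _ ≤ E * E ^ n := Nat.mul_le_mul (card_roots_le E hE) hih
      _ = E ^ (n + 1) := (pow_succ' E n).symm

/-- A subgroup normalising an abelian group of non-scalars has a reducible subgroup of bounded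
index. -/
theorem exists_reducible_of_normalizes [IsAlgClosed F] [Finite G] (ρ : Representation F G V)
    (H A : Subgroup G) (hA : ∀ a ∈ A, ∀ b ∈ A, Commute a b) (hAs : ¬ A ≤ scal ρ)
    (hnorm : ∀ h ∈ H, ∀ a ∈ A, h * a * h⁻¹ ∈ A) :
    ∃ K ≤ H, Reducible ρ K ∧ K.relIndex H ≤ finrank F (Module.End F V) := by
  classical
  haveI : Nontrivial V := by
    by_contra h
    rw [not_nontrivial_iff_subsingleton] at h
    exact hAs fun a _ => ⟨1, fun v => Subsingleton.elim _ _⟩
  obtain ⟨v, hv0, hv⟩ := exists_common_eigen ρ A hA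
  choose c hc using fun a : A => hv a a.2
  have hnorm' : ∀ h : H, ∀ a : A, (h : G) * a * (h : G)⁻¹ ∈ A := fun h a => hnorm h h.2 a a.2
  let cj : H → A → A := fun h a => ⟨(h : G) * a * (h : G)⁻¹, hnorm' h a⟩
  have cj_mul : ∀ h k a, cj (h * k) a = cj h (cj k a) := fun h k a =>
    Subtype.ext (by simp [cj, mul_assoc])
  have cj_one : ∀ a, cj 1 a = a := fun a => Subtype.ext (by simp [cj])
  let K0 : Subgroup H :=
    { carrier := {h | ∀ a, c (cj h a) = c a}
      one_mem' := fun a => by rw [cj_one]
      mul_mem' := fun {h k} hh hk a => by rw [cj_mul, hh, hk]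
      inv_mem' := fun {h} hh a => by rw [← hh (cj h⁻¹ a), ← cj_mul, mul_inv_cancel, cj_one] }
  refine ⟨K0.map H.subtype, Subgroup.map_subtype_le K0, ⟨⨅ a : A, Module.End.eigenspace (ρ (a : G)) (c a),
    ?_, ?_, ?_⟩, ?_⟩
  · refine Submodule.ne_bot_iff _ |>.2 ⟨v, ?_, hv0⟩
    simp only [Submodule.mem_iInf, Module.End.mem_eigenspace_iff]
    exact hc
  · intro h
    refine hAs fun a ha => ⟨c ⟨a, ha⟩, fun w => ?_⟩
    have hw : w ∈ (⊤ : Submodule F V) := Submodule.mem_top
    rw [← h] at hw
    simp only [Submodule.mem_iInf, Module.End.mem_eigenspace_iff] at hw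
    exact hw ⟨a, ha⟩
  · rintro _ ⟨h, hh, rfl⟩ w hw
    simp only [Submodule.mem_iInf, Module.End.mem_eigenspace_iff] at hw ⊢
    intro a
    have e : (a : G) * (h : G) = (h : G) * (cj h⁻¹ a : G) := by simp [cj, mul_assoc]
    have hcc : c (cj h⁻¹ a) = c a := (K0.inv_mem hh) a
    show ρ a (ρ (h : G) w) = c a • ρ (h : G) w
    rw [← Module.End.mul_apply, ← map_mul, e, map_mul, Module.End.mul_apply, hw, map_smul, hcc]
  · -- the characters of `A` met on the orbit are linearly independent
    have hcmul : ∀ a b : A, c (a * b) = c a * c b := fun a b => smul_left_injective F hv0 (by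
      show c (a * b) • v = (c a * c b) • v
      rw [← hc, Subgroup.coe_mul, map_mul, Module.End.mul_apply, hc b, map_smul, hc, smul_smul,
        mul_comm (c b)])
    have hc1 : c 1 = 1 := smul_left_injective F hv0 (by
      show c 1 • v = (1 : F) • v
      rw [← hc, Subgroup.coe_one, map_one, Module.End.one_apply, one_smul])
    let χ : H → (A →* F) := fun h =>
      { toFun := fun a => c (cj h⁻¹ a)
        map_one' := by rw [show cj h⁻¹ 1 = 1 from Subtype.ext (by simp [cj]), hc1]
        map_mul' := fun a b => by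
          rw [← hcmul, show cj h⁻¹ (a * b) = cj h⁻¹ a * cj h⁻¹ b from Subtype.ext (by simp [cj, mul_assoc])] }
    have hcoset : ∀ h k : H, χ h = χ k → h⁻¹ * k ∈ K0 := fun h k e a => by
      rw [cj_mul]
      have := DFunLike.congr_fun e (cj k a)
      change c (cj h⁻¹ (cj k a)) = c (cj k⁻¹ (cj k a)) at this
      rw [this, ← cj_mul, inv_mul_cancel, cj_one]
    let ev : Module.End F V →ₗ[F] V := LinearMap.applyₗ v
    obtain ⟨φ, hφ⟩ : ∃ φ : Module.Dual F V, φ v = 1 := by
      obtain ⟨φ, hφ⟩ : ∃ φ : Module.Dual F V, φ v ≠ 0 := by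
        by_contra h
        push Not at h
        exact hv0 ((Module.forall_dual_apply_eq_zero_iff F v).1 h)
      exact ⟨(φ v)⁻¹ • φ, by simp [hφ]⟩
    let Φ : Module.Dual F (Module.End F V) →ₗ[F] (A → F) :=
      { toFun := fun L a => L (ρ (a : G))
        map_add' := fun _ _ => rfl
        map_smul' := fun _ _ => rfl }
    have hmem : ∀ h : H, (χ h : A → F) ∈ LinearMap.range Φ := fun h => by
      let T : Module.End F (Module.End F V) :=
        LinearMap.mulLeft F (ρ (h : G)⁻¹) ∘ₗ LinearMap.mulRight F (ρ (h : G))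
      refine ⟨φ ∘ₗ ev ∘ₗ T, funext fun a => ?_⟩
      show φ ((ρ (h : G)⁻¹ * (ρ (a : G) * ρ (h : G))) v) = c (cj h⁻¹ a)
      rw [← map_mul, ← map_mul, show (h : G)⁻¹ * ((a : G) * (h : G)) = (cj h⁻¹ a : G) by simp [cj, mul_assoc],
        hc, map_smul, hφ, smul_eq_mul, mul_one]
    let f : H ⧸ K0 → (A →* F) := fun q => χ q.out
    have hf : Function.Injective f := fun q r e => by
      rw [← QuotientGroup.out_eq' q, ← QuotientGroup.out_eq' r]
      exact QuotientGroup.eq.2 (hcoset _ _ e)
    have hli : LinearIndependent F (fun q : H ⧸ K0 => (⟨(f q : A → F), hmem _⟩ : LinearMap.range Φ)) :=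
      LinearIndependent.of_comp (LinearMap.range Φ).subtype
        ((linearIndependent_monoidHom A F).comp f hf)
    haveI := Fintype.ofFinite (H ⧸ K0)
    rw [Subgroup.relIndex, Subgroup.subgroupOf,
      Subgroup.comap_map_eq_self_of_injective H.subtype_injective, Subgroup.index,
      Nat.card_eq_fintype_card]
    exact hli.fintype_card_le_finrank.trans
      ((LinearMap.finrank_range_le Φ).trans_eq Subspace.dual_finrank_eq)

end Cfsg.Agent.H75.BrauerFeit
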