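import Cfsg.Agent.H75.BrauerFeit.Linear
import Cfsg.Agent.H75.BrauerFeit.Deep

/-!
# Brauer–Feit: Jordan's theorem in characteristic `p` with bounded Sylow `p`-subgroup
-/

set_option autoImplicit false
set_option linter.unusedSectionVars false

namespace Cfsg.Agent.H75.BrauerFeit

open Module Subgroup

universe u v

/-- The bound in dimension `d`. -/
def Holds (p m d B : ℕ) : Prop :=
  ∀ (G : Type u) [Group G] [Finite G] (F : Type v) [Field F] [IsAlgClosed F] [CharP F p]
    (V : Type v) [AddCommGroup V] [Module F V] [FiniteDimensional F V] (ρ : Representation F G V),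
    finrank F V = d → Function.Injective ρ → ¬ p ^ (m + 1) ∣ Nat.card G →
      ∃ A : Subgroup G, (∀ a ∈ A, ∀ b ∈ A, Commute a b) ∧ A.index ≠ 0 ∧ A.index ≤ B

variable {p m : ℕ} [Fact p.Prime]

theorem pow_bound {G : Type*} [Group G] [Finite G] (hG : ¬ p ^ (m + 1) ∣ Nat.card G) {k : ℕ}
    (h : p ^ k ∣ Nat.card G) : p ^ k ≤ p ^ m := by
  refine Nat.pow_le_pow_right (Fact.out : p.Prime).pos ?_
  by_contra hk
  exact hG ((Nat.pow_dvd_pow p (by omega)).trans h)

/-- When the `p'`-elements of `C` commute, they generate an abelian subgroup of small index. -/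
theorem exists_pPrime_abelian {G : Type*} [Group G] [Finite G] (hG : ¬ p ^ (m + 1) ∣ Nat.card G)
    (C : Subgroup G) (hC : ∀ a ∈ C, ∀ b ∈ C, (orderOf a).Coprime p → (orderOf b).Coprime p → Commute a b) :
    ∃ A ≤ C, (∀ a ∈ A, ∀ b ∈ A, Commute a b) ∧ (∀ a ∈ A, (orderOf a).Coprime p) ∧
      A.relIndex C ≠ 0 ∧ A.relIndex C ≤ p ^ m := by
  classical
  let A : Subgroup G :=
    { carrier := {a | a ∈ C ∧ (orderOf a).Coprime p}
      one_mem' := ⟨one_mem C, by simp⟩
      mul_mem' := fun {a b} ha hb => ⟨mul_mem ha.1 hb.1, Nat.Coprime.of_dvd_left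
        (Commute.orderOf_mul_dvd_lcm (hC a ha.1 b hb.1 ha.2 hb.2))
        (Nat.Coprime.of_dvd_left (Nat.lcm_dvd_mul _ _) (Nat.Coprime.mul_left ha.2 hb.2))⟩
      inv_mem' := fun {a} ha => ⟨inv_mem ha.1, by rw [orderOf_inv]; exact ha.2⟩ }
  have hAC : A ≤ C := fun a ha => ha.1
  refine ⟨A, hAC, fun a ha b hb => hC a ha.1 b hb.1 ha.2 hb.2, fun a ha => ha.2,
    Subgroup.index_ne_zero_of_finite, ?_⟩
  have hr : ∀ q : ℕ, q.Prime → q ∣ A.relIndex C → q = p := by
    intro q hq hdvd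
    by_contra hne
    haveI := Fact.mk hq
    obtain ⟨Q⟩ := Sylow.nonempty (p := q) (G := C)
    refine Q.not_dvd_index (hdvd.trans (Subgroup.index_dvd_of_le ?_))
    intro x hx
    rw [Subgroup.mem_subgroupOf]
    refine ⟨x.2, ?_⟩
    obtain ⟨k, hk⟩ := Q.isPGroup' ⟨x, hx⟩
    have h1 : x ^ q ^ k = 1 := congrArg Subtype.val hk
    rw [orderOf_coe]
    exact Nat.Coprime.of_dvd_left (orderOf_dvd_of_pow_eq_one h1)
      (((Nat.coprime_primes hq (Fact.out : p.Prime)).2 hne).pow_left k)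
  have hpow : A.relIndex C = p ^ (A.relIndex C).primeFactorsList.length :=
    Nat.eq_prime_pow_of_unique_prime_dvd Subgroup.index_ne_zero_of_finite fun {q} hq hd => hr q hq hd
  rw [hpow]
  refine pow_bound hG ?_
  rw [← hpow]
  exact (Subgroup.index_dvd_card (A.subgroupOf C)).trans (Subgroup.card_subgroup_dvd_card C)

/-- Image of a group acting on a vector space: abelian modulo the kernel. -/
theorem exists_abelian_mod {p m d B : ℕ} (hd : Holds.{u, v} p m d B) {G : Type u} [Group G] [Finite G]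
    {F : Type v} [Field F] [IsAlgClosed F] [CharP F p] {V : Type v} [AddCommGroup V] [Module F V]
    [FiniteDimensional F V] (f : Representation F G V) (hf : finrank F V = d)
    (hG : ¬ p ^ (m + 1) ∣ Nat.card G) :
    ∃ A : Subgroup G, A.index ≠ 0 ∧ A.index ≤ B ∧ ∀ a ∈ A, ∀ b ∈ A, f (a * b) = f (b * a) := by
  let K : Subgroup G := f.ker
  let f' : Representation F (G ⧸ K) V := QuotientGroup.lift K f (le_refl _)
  have hinj : Function.Injective f' := by
    rintro ⟨a⟩ ⟨b⟩ hab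
    refine QuotientGroup.eq.2 ?_
    show f (a⁻¹ * b) = 1
    rw [map_mul, ← show f a = f b from hab, ← map_mul, inv_mul_cancel, map_one]
  obtain ⟨A, hA, hA0, hAB⟩ := hd (G ⧸ K) F V f' hf hinj
    (fun h => hG (h.trans (Subgroup.card_quotient_dvd_card K)))
  refine ⟨A.comap (QuotientGroup.mk' K), ?_, ?_, fun a ha b hb => ?_⟩
  · rw [Subgroup.index_comap_of_surjective _ (QuotientGroup.mk'_surjective K)]; exact hA0
  · rw [Subgroup.index_comap_of_surjective _ (QuotientGroup.mk'_surjective K)]; exact hAB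
  · exact congrArg f' (hA _ ha _ hb).eq

/-- A reducible group. -/
theorem abelian_of_reducible {n M : ℕ}
    (hM : ∀ d < n, ∃ B ≤ M, Holds.{u, v} p m d B) {G : Type u} [Group G] [Finite G] {F : Type v}
    [Field F] [IsAlgClosed F] [CharP F p] {V : Type v} [AddCommGroup V] [Module F V]
    [FiniteDimensional F V] (ρ : Representation F G V) (hn : finrank F V = n)
    (hρ : Function.Injective ρ) (hG : ¬ p ^ (m + 1) ∣ Nat.card G) (H : Subgroup G)
    (hH : Reducible ρ H) :
    ∃ A ≤ H, (∀ a ∈ A, ∀ b ∈ A, Commute a b) ∧ A.relIndex H ≠ 0 ∧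
      A.relIndex H ≤ M * M * (p ^ m).factorial * p ^ m := by
  obtain ⟨W, hW0, hW1, hWH⟩ := hH
  let fW : Representation F H W :=
    { toFun := fun h => (ρ (h : G)).restrict (fun w hw => hWH h h.2 w hw)
      map_one' := LinearMap.ext fun w => Subtype.ext (by simp)
      map_mul' := fun a b => LinearMap.ext fun w => Subtype.ext (by simp) }
  let fQ : Representation F H (V ⧸ W) :=
    { toFun := fun h => W.mapQ W (ρ (h : G)) (fun w hw => hWH h h.2 w hw)
      map_one' := Submodule.linearMap_qext _ (LinearMap.ext fun x => by simp)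
      map_mul' := fun a b => Submodule.linearMap_qext _ (LinearMap.ext fun x => by simp) }
  have hdW : finrank F W < n := hn ▸ Submodule.finrank_lt hW1
  have hdQ : finrank F (V ⧸ W) < n := by
    have h := W.finrank_quotient_add_finrank
    have h' : 0 < finrank F W := Nat.pos_of_ne_zero fun h0 => hW0 (Submodule.finrank_eq_zero.1 h0)
    omega
  have hGH : ¬ p ^ (m + 1) ∣ Nat.card H := fun h => hG (h.trans (Subgroup.card_subgroup_dvd_card H))
  obtain ⟨B1, hB1, hH1⟩ := hM _ hdW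
  obtain ⟨B2, hB2, hH2⟩ := hM _ hdQ
  obtain ⟨A1, hA10, hA1B, hA1⟩ := exists_abelian_mod hH1 fW rfl hGH
  obtain ⟨A2, hA20, hA2B, hA2⟩ := exists_abelian_mod hH2 fQ rfl hGH
  let U : Subgroup H := fW.ker ⊓ fQ.ker
  have hU : ∀ x ∈ U, x ^ p = 1 := by
    rintro x ⟨hxW, hxQ⟩
    refine Subtype.ext ?_
    rw [Subgroup.coe_pow]
    exact eq_one_of_unipotent p ρ hρ W
      (fun w hw => congrArg Subtype.val (LinearMap.congr_fun hxW ⟨w, hw⟩))
      (fun v => (Submodule.Quotient.eq W).1 (LinearMap.congr_fun hxQ (Submodule.Quotient.mk v)))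
  have hUp : IsPGroup p U := fun x => ⟨1, Subtype.ext (by rw [pow_one]; exact hU x x.2)⟩
  have hUcard : Nat.card U ≤ p ^ m := by
    obtain ⟨k, hk⟩ := IsPGroup.iff_card.1 hUp
    rw [hk]
    exact pow_bound hGH (hk ▸ Subgroup.card_subgroup_dvd_card U)
  haveI : U.Normal := inferInstanceAs (fW.ker ⊓ fQ.ker).Normal
  let conj : H →* MulAut U := MulAut.conjNormal
  have hker : conj.ker.index ≤ (p ^ m).factorial := by
    rw [Subgroup.index_ker]
    calc Nat.card conj.range ≤ Nat.card (MulAut U) := Nat.card_le_card_of_injective _ Subtype.val_injective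
      _ ≤ Nat.card (Equiv.Perm U) := Nat.card_le_card_of_injective MulEquiv.toEquiv
          (fun a b h => MulEquiv.ext fun x => congrFun (congrArg DFunLike.coe h) x)
      _ = (Nat.card U).factorial := Nat.card_perm
      _ ≤ _ := Nat.factorial_le hUcard
  let C : Subgroup H := (A1 ⊓ A2) ⊓ conj.ker
  have hcomm : ∀ a ∈ C, ∀ b ∈ C, a * b * a⁻¹ * b⁻¹ ∈ U := by
    intro a ha b hb
    constructor
    · show fW (a * b * a⁻¹ * b⁻¹) = 1
      rw [map_mul, map_mul, hA1 a ha.1.1 b hb.1.1, ← map_mul, ← map_mul]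
      simp
    · show fQ (a * b * a⁻¹ * b⁻¹) = 1
      rw [map_mul, map_mul, hA2 a ha.1.2 b hb.1.2, ← map_mul, ← map_mul]
      simp
  have hcop : ∀ a ∈ C, ∀ b ∈ C, (orderOf a).Coprime p → (orderOf b).Coprime p → Commute a b := by
    intro a ha b hb hap _
    set c := a * b * a⁻¹ * b⁻¹ with hc
    have hcU : c ∈ U := hcomm a ha b hb
    have hac : Commute a c := by
      have := congrArg Subtype.val (MulEquiv.congr_fun (ha.2 : conj a = 1) ⟨c, hcU⟩)
      simp only [conj, MulAut.conjNormal_apply, MulAut.one_apply] at this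
      exact mul_inv_eq_iff_eq_mul.1 this
    have hk : ∀ k : ℕ, a ^ k * b * (a ^ k)⁻¹ = c ^ k * b := by
      intro k
      induction k with
      | zero => simp
      | succ k ih =>
        rw [pow_succ', mul_inv_rev]
        calc a * a ^ k * b * ((a ^ k)⁻¹ * a⁻¹) = a * (a ^ k * b * (a ^ k)⁻¹) * a⁻¹ := by group
          _ = (a * c ^ k) * b * a⁻¹ := by rw [ih]; group
          _ = c ^ k * (a * b * a⁻¹) := by rw [(hac.pow_right k).eq]; group
          _ = c ^ (k + 1) * b := by rw [pow_succ, hc]; group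
    have h1 := hk (orderOf a)
    rw [pow_orderOf_eq_one, one_mul, inv_one, mul_one, eq_comm, mul_eq_right] at h1
    have h2 : orderOf c = 1 := Nat.eq_one_of_dvd_coprimes hap (orderOf_dvd_of_pow_eq_one h1)
      (orderOf_dvd_of_pow_eq_one (hU c hcU))
    rw [orderOf_eq_one_iff, hc, mul_inv_eq_one, mul_inv_eq_iff_eq_mul] at h2
    exact h2
  obtain ⟨A, hAC, hA, -, hA0, hAp⟩ := exists_pPrime_abelian hGH C hcop
  refine ⟨A.map H.subtype, Subgroup.map_subtype_le A, ?_, ?_, ?_⟩
  · rintro _ ⟨a, ha, rfl⟩ _ ⟨b, hb, rfl⟩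
    exact (hA a ha b hb).map H.subtype
  · exact Subgroup.index_ne_zero_of_finite
  · rw [Subgroup.relIndex, Subgroup.subgroupOf,
      Subgroup.comap_map_eq_self_of_injective H.subtype_injective, ← Subgroup.relIndex_mul_index hAC]
    have hCi : C.index ≤ M * M * (p ^ m).factorial :=
      Subgroup.index_inf_le.trans (Nat.mul_le_mul (Subgroup.index_inf_le.trans
        (Nat.mul_le_mul (hA1B.trans hB1) (hA2B.trans hB2))) hker)
    calc A.relIndex C * C.index ≤ p ^ m * (M * M * (p ^ m).factorial) := Nat.mul_le_mul hAp hCi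
      _ = _ := mul_comm _ _

theorem exists_pow_mem {G : Type*} [Group G] [Finite G] {A H : Subgroup G} {R : ℕ}
    (hR : A.relIndex H ≤ R) {x : G} (hx : x ∈ H) : x ^ R.factorial ∈ A := by
  obtain ⟨i, hi0, hiR, hi⟩ := Subgroup.exists_pow_mem_of_index_ne_zero
    (H := A.subgroupOf H) Subgroup.index_ne_zero_of_finite ⟨x, hx⟩
  obtain ⟨c, hc⟩ := Nat.dvd_factorial hi0 (hiR.trans hR)
  rw [hc, pow_mul]
  exact pow_mem (Subgroup.mem_subgroupOf.1 hi) c

/-- The scalar multiples of a commutation are roots of unity: the centraliser of a coset. -/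
theorem card_comm_le {n : ℕ} {G : Type*} [Group G] [Finite G] {F : Type*} [Field F] {V : Type*}
    [AddCommGroup V] [Module F V] [FiniteDimensional F V] [Nontrivial V] (ρ : Representation F G V)
    (hn : finrank F V = n) (hρ : Function.Injective ρ) (g : G) (P K : Subgroup G)
    (hP : ∀ h ∈ P, (g * h)⁻¹ * (h * g) ∈ scal ρ) (hK : ∀ h ∈ P, Commute h g → h ∈ K) :
    Nat.card P ≤ n * Nat.card K := by
  classical
  have hn0 : 0 < n := hn ▸ Module.finrank_pos
  have hdata : ∀ h : P, ∃ c : F, c ^ n = 1 ∧ ρ ((h : G) * g) = c • ρ (g * h) := by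
    intro h
    obtain ⟨c, hc⟩ := hP h h.2
    have heq : ρ ((h : G) * g) = c • ρ (g * h) := LinearMap.ext fun v => by
      rw [LinearMap.smul_apply, ← map_smul, ← hc, ← Module.End.mul_apply, ← map_mul,
        mul_inv_cancel_left]
    refine ⟨c, ?_, heq⟩
    have hd := congrArg LinearMap.det heq
    rw [LinearMap.det_smul, hn, map_mul ρ, map_mul ρ, map_mul, map_mul, mul_comm] at hd
    have hne : ∀ y : G, LinearMap.det (ρ y) ≠ 0 := fun y h0 => by
      have := congrArg (fun w => LinearMap.det (ρ w)) (mul_inv_cancel y)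
      simp only [map_mul, map_one, h0, zero_mul] at this
      exact zero_ne_one this
    exact ((mul_eq_right₀ (mul_ne_zero (hne g) (hne h))).1 hd.symm)
  choose c hc1 hc2 using hdata
  haveI := finite_roots (F := F) n hn0
  obtain ⟨r, hr⟩ : ∃ r : {x : F // x ^ n = 1} → P, ∀ h : P, c (r ⟨c h, hc1 h⟩) = c h := by
    refine ⟨fun x => if hx : ∃ h : P, c h = x.1 then hx.choose else 1, fun h => ?_⟩
    simp only
    rw [dif_pos ⟨h, rfl⟩]
    exact Exists.choose_spec (p := fun h' : P => c h' = c h) ⟨h, rfl⟩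
  have hmem : ∀ h : P, ((h : G) * (r ⟨c h, hc1 h⟩ : G)⁻¹) ∈ K := by
    intro h
    set r₀ := r ⟨c h, hc1 h⟩
    refine hK _ (mul_mem h.2 (inv_mem r₀.2)) (hρ ?_)
    have h1 : ρ ((h : G) * g) = c h • ρ (g * h) := hc2 h
    have h2 : ρ ((r₀ : G) * g) = c h • ρ (g * r₀) := (hr h) ▸ hc2 r₀
    have h3 : ρ ((g * r₀) * ((r₀ : G)⁻¹)) = ρ g := by rw [mul_inv_cancel_right]
    have hc0 : c h ≠ 0 := fun h0 => by
      have h4 := hc1 h
      rw [h0, zero_pow hn0.ne'] at h4
      exact zero_ne_one h4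
    have h5 : c h • ρ ((r₀ : G)⁻¹ * g) = ρ (g * (r₀ : G)⁻¹) := by
      have h6 : ρ ((r₀ : G)⁻¹) * ρ ((r₀ : G) * g) * ρ ((r₀ : G)⁻¹) =
          ρ ((r₀ : G)⁻¹) * (c h • ρ (g * r₀)) * ρ ((r₀ : G)⁻¹) := by rw [h2]
      rw [mul_smul_comm, smul_mul_assoc, ← map_mul, ← map_mul, ← map_mul, ← map_mul] at h6
      simpa [mul_assoc] using h6.symm
    calc ρ ((h : G) * (r₀ : G)⁻¹ * g) = ρ h * ρ ((r₀ : G)⁻¹ * g) := by rw [← map_mul, mul_assoc]
      _ = (c h)⁻¹ • (ρ h * ρ (g * (r₀ : G)⁻¹)) := by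
        rw [← h5, mul_smul_comm, inv_smul_smul₀ hc0]
      _ = (c h)⁻¹ • (ρ ((h : G) * g) * ρ ((r₀ : G)⁻¹)) := by
        rw [map_mul, map_mul, mul_assoc]
      _ = ρ (g * ((h : G) * (r₀ : G)⁻¹)) := by
        rw [h1, smul_mul_assoc, inv_smul_smul₀ hc0, ← map_mul, mul_assoc]
  let φ : P → {x : F // x ^ n = 1} × K := fun h => (⟨c h, hc1 h⟩, ⟨_, hmem h⟩)
  have hφ : Function.Injective φ := by
    intro a b hab
    have h1 : (⟨c a, hc1 a⟩ : {x : F // x ^ n = 1}) = ⟨c b, hc1 b⟩ := congrArg Prod.fst hab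
    have h2 : (a : G) * (r ⟨c a, hc1 a⟩ : G)⁻¹ = (b : G) * (r ⟨c b, hc1 b⟩ : G)⁻¹ :=
      congrArg (fun z => ((Prod.snd z : K) : G)) hab
    rw [h1] at h2
    exact Subtype.ext (mul_right_cancel h2)
  calc Nat.card P ≤ Nat.card ({x : F // x ^ n = 1} × K) := Nat.card_le_card_of_injective φ hφ
    _ = _ := Nat.card_prod _ _
    _ ≤ n * Nat.card K := Nat.mul_le_mul_right _ (card_roots_le n hn0)

theorem exists_holds (p m : ℕ) [Fact p.Prime] (n : ℕ) : ∃ B, Holds.{u, v} p m n B := by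
  induction n using Nat.strong_induction_on with
  | _ n ih =>
  choose f hf using ih
  set M := ∑ d : Fin n, f d d.2 with hMdef
  have hM : ∀ d < n, ∃ B ≤ M, Holds.{u, v} p m d B := fun d hd =>
    ⟨f d hd, Finset.single_le_sum (f := fun d : Fin n => f d d.2) (fun _ _ => Nat.zero_le _)
      (Finset.mem_univ ⟨d, hd⟩), hf d hd⟩
  set R0 := M * M * (p ^ m).factorial * p ^ m
  set R1 := n * n * R0 + R0 + 1 with hR1
  set e := R1.factorial
  set S := n * (R1 * p ^ m * (e ^ 5) ^ n)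
  obtain ⟨B, hB⟩ := exists_bound.{u} R1 S (by omega)
  refine ⟨B + R1, fun G _ _ F _ _ _ V _ _ _ ρ hn hρ hG => ?_⟩
  set Z := scal ρ
  haveI : Z.Normal := normal_scal ρ hρ
  have hZ : ∀ z ∈ Z, ∀ g : G, Commute z g := fun z hz g => commute_scal ρ hρ hz g
  have hcent : ∀ g : G, g ∉ Z → ∃ A ≤ centralizer ({g} : Set G), (∀ a ∈ A, ∀ b ∈ A, Commute a b) ∧
      A.relIndex (centralizer ({g} : Set G)) ≠ 0 ∧
      A.relIndex (centralizer ({g} : Set G)) ≤ R1 := fun g hg => by
    obtain ⟨A, hA1, hA2, hA3, hA4⟩ := abelian_of_reducible hM ρ hn hρ hG _ (reducible_centralizer ρ hg)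
    exact ⟨A, hA1, hA2, hA3, hA4.trans (by omega)⟩
  have hnorm : ∀ H : Subgroup G, (∃ A : Subgroup G, (∀ a ∈ A, ∀ b ∈ A, Commute a b) ∧ ¬ A ≤ Z ∧
      ∀ h ∈ H, ∀ a ∈ A, h * a * h⁻¹ ∈ A) →
      ∃ AN : Subgroup G, AN ≤ H ∧ (∀ a ∈ AN, ∀ b ∈ AN, Commute a b) ∧ AN.relIndex H ≠ 0 ∧
        AN.relIndex H ≤ R1 ∧ ∀ x ∈ H, x ^ e ∈ AN := by
    rintro H ⟨A, hA, hAZ, hAH⟩
    obtain ⟨K, hKH, hKr, hKi⟩ := exists_reducible_of_normalizes ρ H A hA hAZ hAH
    obtain ⟨AN, hANK, hAN, hAN0, hANi⟩ := abelian_of_reducible hM ρ hn hρ hG K hKr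
    have hle : AN.relIndex H ≤ R1 := by
      rw [← Subgroup.relIndex_mul_relIndex AN K H hANK hKH]
      calc AN.relIndex K * K.relIndex H ≤ R0 * (n * n) := Nat.mul_le_mul hANi
            (hKi.trans_eq (by rw [Module.finrank_linearMap, hn]))
        _ ≤ R1 := by rw [mul_comm]; omega
    exact ⟨AN, hANK.trans hKH, hAN, Subgroup.index_ne_zero_of_finite, hle,
      fun x hx => exists_pow_mem hle hx⟩
  by_cases hno : ∃ A : Subgroup G, (∀ a ∈ A, ∀ b ∈ A, Commute a b) ∧ ¬ A ≤ Z ∧
      ∀ h : G, ∀ a ∈ A, h * a * h⁻¹ ∈ A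
  · obtain ⟨A, hA, hAZ, hAn⟩ := hno
    obtain ⟨AN, -, hAN, h0, hle, -⟩ := hnorm ⊤ ⟨A, hA, hAZ, fun h _ => hAn h⟩
    rw [Subgroup.relIndex_top_right] at h0 hle
    exact ⟨AN, hAN, h0, by omega⟩
  refine ⟨Z, fun a ha b _ => hZ a ha b, Subgroup.index_ne_zero_of_finite, ?_⟩
  rw [Subgroup.index_eq_card]
  refine (hB Z e hZ ?_ ?_ hnorm hno).trans (Nat.le_add_right _ _)
  · intro g hg a b ha hb
    obtain ⟨A, hA1, hA2, -, hA4⟩ := hcent g hg
    exact hA2 _ (exists_pow_mem hA4 (mem_centralizer_singleton_iff.2 ha.eq)) _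
      (exists_pow_mem hA4 (mem_centralizer_singleton_iff.2 hb.eq))
  · intro H hZH g hgH hgZ hdeep q hq
    haveI : Nontrivial V := by
      by_contra h
      rw [not_nontrivial_iff_subsingleton] at h
      exact hgZ ⟨1, fun v => Subsingleton.elim _ _⟩
    have hn0 : 0 < n := hn ▸ Module.finrank_pos
    let K : Subgroup G := H ⊓ centralizer ({g} : Set G)
    let π := QuotientGroup.mk' Z
    let P : Subgroup G := H ⊓ (centralizer ({(g : G ⧸ Z)} : Set (G ⧸ Z))).comap π
    have hPK : Nat.card P ≤ n * Nat.card K := by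
      refine card_comm_le ρ hn hρ g P K (fun h hh => ?_) (fun h hh hc => ⟨hh.1, mem_centralizer_singleton_iff.2 hc.eq⟩)
      rw [← QuotientGroup.eq]
      exact (mem_centralizer_singleton_iff.1 hh.2).symm
    have hK : Nat.card K ≤ R1 * p ^ m * (e ^ 5) ^ n * Nat.card Z := by
      obtain ⟨A, hA1, hA2, hA0, hA4⟩ := hcent g hgZ
      let A' : Subgroup G := A ⊓ H
      obtain ⟨D, hDA, hD, hDp, hD0, hDi⟩ := exists_pPrime_abelian hG A' fun a ha b hb _ _ =>
        hA2 a ha.1 b hb.1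
      have hA'K : A' ≤ K := le_inf inf_le_right (inf_le_left.trans hA1)
      have h1 : A'.relIndex K ≤ R1 := by
        refine le_trans ?_ hA4
        have hrw : A'.relIndex K = A.relIndex K := by
          rw [Subgroup.relIndex, Subgroup.relIndex]
          congr 1
          ext x
          simp only [Subgroup.mem_subgroupOf]
          exact ⟨fun h => h.1, fun h => ⟨h, x.2.1⟩⟩
        rw [hrw]
        exact Subgroup.relIndex_le_of_le_right inf_le_right hA0
      have hcardrel : ∀ {X Y : Subgroup G}, X ≤ Y → Nat.card Y = Nat.card X * X.relIndex Y := by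
        intro X Y h
        rw [← Nat.card_congr (Subgroup.subgroupOfEquivOfLe h).toEquiv]
        exact (Subgroup.card_mul_index _).symm
      have h3 : Nat.card D ≤ (e ^ 5) ^ n * Nat.card Z := by
        letI : CommGroup D := { (inferInstance : Group D) with
          mul_comm := fun a b => Subtype.ext (hD a a.2 b b.2).eq }
        let φ : D →* D := powMonoidHom (e ^ 5)
        have hker : Nat.card φ.ker ≤ (e ^ 5) ^ n := by
          refine le_trans (le_of_eq (Nat.card_congr (Equiv.subtypeEquivRight fun d => Iff.rfl)))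
            (card_torsion_le p (e ^ 5) (pow_pos (Nat.factorial_pos _) 5) n V D (ρ.comp D.subtype) hn
              (hρ.comp Subtype.val_injective) fun d => by rw [← orderOf_coe]; exact hDp d d.2)
        have hrange : Nat.card φ.range ≤ Nat.card Z := by
          refine Nat.card_le_card_of_injective (fun x => ⟨((x : D) : G), ?_⟩) fun a b h =>
            Subtype.ext (Subtype.ext (congrArg (fun z : Z => (z : G)) h))
          obtain ⟨d, hd⟩ := x.2
          rw [← hd]
          exact hdeep _ (hDA d.2).2 (mem_centralizer_singleton_iff.1 (hA1 (hDA d.2).1))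
        rw [← φ.ker.card_mul_index, Subgroup.index_ker]
        exact Nat.mul_le_mul hker hrange
      calc Nat.card K = Nat.card A' * A'.relIndex K := hcardrel hA'K
        _ = Nat.card D * D.relIndex A' * A'.relIndex K := by rw [hcardrel hDA]
        _ ≤ (e ^ 5) ^ n * Nat.card Z * p ^ m * R1 := Nat.mul_le_mul (Nat.mul_le_mul h3 hDi) h1
        _ = _ := by ring
    have hZP : Z ≤ P := fun z hz => ⟨hZH hz, mem_centralizer_singleton_iff.2 (by
      rw [show π z = 1 from (QuotientGroup.eq_one_iff z).2 hz, one_mul, mul_one])⟩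
    have h4 : Nat.card (centralizer ({q} : Set (H.map π))) * Nat.card Z ≤ Nat.card P := by
      have h5 : Nat.card (P.map π) * Nat.card Z = Nat.card P := by
        have h6 := Subgroup.relIndex_map_map π ⊥ P
        rw [Subgroup.map_bot, Subgroup.relIndex_bot_left, bot_sup_eq, QuotientGroup.ker_mk',
          sup_eq_left.2 hZP] at h6
        rw [h6, mul_comm, ← Nat.card_congr (Subgroup.subgroupOfEquivOfLe hZP).toEquiv]
        exact Subgroup.card_mul_index _
      rw [← h5]
      refine Nat.mul_le_mul_right _ (Nat.card_le_card_of_injective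
        (fun x => ⟨((x : H.map π) : G ⧸ Z), ?_⟩) fun a b h =>
          Subtype.ext (Subtype.ext (congrArg (fun z : P.map π => (z : G ⧸ Z)) h)))
      obtain ⟨h, hh, hhx⟩ := x.1.2
      refine ⟨h, ⟨hh, mem_centralizer_singleton_iff.2 ?_⟩, hhx⟩
      rw [hhx, ← hq]
      exact congrArg Subtype.val (mem_centralizer_singleton_iff.1 x.2)
    refine Nat.le_of_mul_le_mul_right (h4.trans (hPK.trans ?_)) Nat.card_pos
    calc n * Nat.card K ≤ n * (R1 * p ^ m * (e ^ 5) ^ n * Nat.card Z) := Nat.mul_le_mul_left n hK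
      _ = S * Nat.card Z := by ring

end Cfsg.Agent.H75.BrauerFeit
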